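import Groth.Agent.NonAbLib.NoriReduced.Subtorsor
import Groth.Agent.S1297

/-!
# A torsor without proper subtorsors has only constant functions
-/

universe u

open CategoryTheory CategoryTheory.Limits MonoidalCategory CartesianMonoidalCategory MonObj GrpObj AlgebraicGeometry

namespace Groth.Agent.NonAbLib.NoriReduced

variable {k : Type u} [Field k] {X : Scheme.{u}} (π : X ⟶ Spec (CommRingCat.of k))
  {G : Over (Spec (CommRingCat.of k))} [GrpObj G] {T : Over X} (a : AlgGrp.Action (Red.bc π G) T)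

theorem appTop_bijective [IsProper π] [IsReduced X] [ConnectedSpace X] [IsFinite G.hom]
    (t : Spec (CommRingCat.of k) ⟶ T.left) (ht : t ≫ T.hom ≫ π = 𝟙 _)
    (hT : NonAbH1.IsTorsorFor Scheme.fppfPrecoverage a)
    (hNori : ∀ (H : Over (Spec (CommRingCat.of k))) [GrpObj H] (i : H ⟶ G) [IsMonHom i] [IsClosedImmersion i.left]
      (V : Over X) (j : V ⟶ T) [IsClosedImmersion j.left] (b : AlgGrp.Action (Red.bc π H) V),
      NonAbH1.IsTorsorFor Scheme.fppfPrecoverage b →
      AlgGrp.Action.IsEquivariant b (a.restrict ((Over.pullback π).map i)) j → IsIso j) :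
    Function.Bijective (T.hom ≫ π).appTop.hom := by
  have hT' := torsor_mono fppf_le_fpqc hT
  have : IsAffine G.left := isAffine_of_isAffineHom G.hom
  obtain ⟨hTs, hTf, hTl⟩ := surjective_flat_lfp π a hT
  have := EtFound.fpqc_isFinite.{u}
  have : IsZariskiLocalAtTarget (@IsFinite : MorphismProperty Scheme.{u}) := by
    set_option backward.isDefEq.respectTransparency.types false in infer_instance
  have : IsFinite T.hom := SchTorsor.torsor_property @IsFinite hT' (inferInstanceAs (IsFinite (pullback.snd G.hom π)))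
  have hprop : IsProper (T.hom ≫ π) := inferInstance
  have : CompactSpace T.left := (quasiCompact_iff_compactSpace (T.hom ≫ π)).1 inferInstance
  have : QuasiSeparatedSpace T.left := (quasiSeparated_iff_quasiSeparatedSpace (T.hom ≫ π)).1 inferInstance
  have hiso : IsIso T.left.toSpecΓ.appTop := by rw [Scheme.toSpecΓ_appTop]; infer_instance
  obtain ⟨g, hg, -⟩ := existsUnique_factor T.left.toSpecΓ (T.hom ≫ π)
  let Z : Over (Spec (CommRingCat.of k)) := Over.mk g
  have : IsAffine Z.left := inferInstanceAs (IsAffine (Spec _))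
  let ζ : (Over.map π).obj T ⟶ Z := Over.homMk T.left.toSpecΓ hg
  have : IsIso ζ.left.appTop := hiso
  have : CompactSpace ((Over.map π).obj T).left := ‹CompactSpace T.left›
  have : QuasiSeparatedSpace ((Over.map π).obj T).left := ‹QuasiSeparatedSpace T.left›
  obtain ⟨c, hc⟩ := exists_action (Rel.action π a) ζ
  have hZfin : g.appTop.hom.Finite := by
    have h2 : g.appTop = (T.hom ≫ π).appTop ≫ inv T.left.toSpecΓ.appTop := by
      rw [IsIso.eq_comp_inv, ← Scheme.Hom.comp_appTop, hg]
    rw [h2, CommRingCat.hom_comp]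
    exact (RingHom.Finite.of_surjective _
      (ConcreteCategory.bijective_of_isIso (inv T.left.toSpecΓ.appTop)).2).comp (S1297.finite_appTop (T.hom ≫ π))
  have : DiscreteTopology Z.left := S10832.discrete_of_finite k g hZfin
  have : IsFinite Z.hom := (HasAffineProperty.iff_of_isAffine (P := @IsFinite)).2 ⟨inferInstance, hZfin⟩
  let tk : 𝟙_ (Over (Spec (CommRingCat.of k))) ⟶ (Over.map π).obj T := Over.homMk t ht
  -- the orbit
  obtain ⟨z, hz⟩ : ∃ z, z = tk ≫ ζ := ⟨_, rfl⟩
  obtain ⟨θ, hθdef⟩ : ∃ θ, θ = c.orbitMap z := ⟨_, rfl⟩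
  have hθ : ∀ {S : Over (Spec (CommRingCat.of k))} (g : S ⟶ G), g ≫ θ = lift g (toUnit S ≫ z) ≫ c.act :=
    fun {S} g => by
      rw [hθdef]
      show g ≫ lift (𝟙 G) (toUnit G ≫ z) ≫ c.act = _
      rw [comp_lift_assoc, Category.comp_id, ← Category.assoc g, toUnit_unique (g ≫ toUnit G) (toUnit S)]
  obtain ⟨H, _, i, _, _, hH⟩ := exists_stab c z
  have : LocallyOfFiniteType H.hom := by rw [← Over.w i]; infer_instance
  have : QuasiCompact H.hom := by rw [← Over.w i]; infer_instance
  have : Mono i := Over.mono_of_mono_left i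
  obtain ⟨Q, aQ, o, _, _, _, _, sq⟩ := GrpSchLib.HomogeneousQuot.exists_quot G H i
  obtain ⟨_, _⟩ := isAffine_and_isFinite_of_surjective (G := G) (aQ.orbitMap o)
  obtain ⟨q, hq⟩ : ∃ q, q = aQ.orbitMap o := ⟨_, rfl⟩
  rw [← hq] at sq
  have : Flat q.left := hq ▸ inferInstance
  have : Surjective q.left := hq ▸ inferInstance
  have : LocallyOfFinitePresentation q.left := by
    have : LocallyOfFiniteType (q.left ≫ Q.hom) := by rw [Over.w q]; infer_instance
    have := locallyOfFiniteType_of_comp q.left Q.hom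
    have : IsLocallyNoetherian Q.left := LocallyOfFiniteType.isLocallyNoetherian Q.hom
    infer_instance
  have hkp : ∀ {S : Over (Spec (CommRingCat.of k))} (g g' : S ⟶ G), g ≫ θ = g' ≫ θ ↔ g ≫ q = g' ≫ q := by
    intro S g g'
    have h1 : g ≫ θ = g' ≫ θ ↔ ∃ h, h ≫ i = g⁻¹ * g' := by
      rw [hH, hθ, hθ, SchTorsor.act_assoc]
      constructor
      · intro e
        rw [← e, ← SchTorsor.act_assoc, inv_mul_cancel, SchTorsor.one_act_pt]
      · intro e
        have e' := congrArg (fun y => lift g y ≫ c.act) e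
        rw [← SchTorsor.act_assoc, mul_inv_cancel, SchTorsor.one_act_pt] at e'
        exact e'.symm
    rw [h1]
    constructor
    · rintro ⟨h, hh⟩
      have := congrArg (lift g h ≫ ·) sq.w
      have e : g' = g * (h ≫ i) := by rw [hh, mul_inv_cancel_left]
      rw [e, Hom.mul_def, Category.assoc]
      simpa [lift_whiskerLeft_assoc] using this
    · intro e
      obtain ⟨l, hl1, hl2⟩ := sq.exists_lift g g' e
      refine ⟨l ≫ snd G H, ?_⟩
      rw [← lift_comp_fst_snd l, hl1, lift_whiskerLeft_assoc, ← Hom.mul_def] at hl2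
      rw [← hl2, inv_mul_cancel_left]
  let e₀ := EffectiveEpi.desc q.left θ.left fun {W} g₁ g₂ h => by
    let S : Over (Spec (CommRingCat.of k)) := Over.mk (g₁ ≫ G.hom)
    let z₁ : S ⟶ G := Over.homMk g₁ rfl
    let z₂ : S ⟶ G := Over.homMk g₂ (by show g₂ ≫ _ = g₁ ≫ _; rw [← Over.w q, ← Category.assoc, ← h, Category.assoc])
    exact congrArg CommaMorphism.left ((hkp z₁ z₂).2 (Over.OverMorphism.ext h))
  have he₀ : q.left ≫ e₀ = θ.left := EffectiveEpi.fac _ _ _
  obtain ⟨emb, hemb⟩ : ∃ emb : Q ⟶ Z, q ≫ emb = θ :=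
    ⟨Over.homMk e₀ ((cancel_epi q.left).1 (by rw [← Category.assoc, he₀, Over.w θ, Over.w q])),
      Over.OverMorphism.ext he₀⟩
  have hembcl : IsClosedImmersion emb.left := by
    have : IsFinite (emb.left ≫ Z.hom) := by rw [Over.w emb]; infer_instance
    have : IsFinite emb.left := IsFinite.of_comp emb.left Z.hom
    refine (IsClosedImmersion.iff_isFinite_and_mono _).mpr ⟨inferInstance, ⟨fun {W} f₁ f₂ hf => ?_⟩⟩
    -- lift the two points
    let W' := pullback (pullback.snd q.left f₁ ≫ f₂) q.left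
    let g₁ : W' ⟶ G.left := pullback.fst _ _ ≫ pullback.fst q.left f₁
    let g₂ : W' ⟶ G.left := pullback.snd _ _
    let w : W' ⟶ W := pullback.fst _ _ ≫ pullback.snd q.left f₁
    have : Surjective (pullback.fst (pullback.snd q.left f₁ ≫ f₂) q.left) := inferInstance
    have : Epi w := by
      have : EffectiveEpi w := inferInstance
      infer_instance
    rw [← cancel_epi w]
    have e₁ : g₁ ≫ q.left = w ≫ f₁ := by simp only [g₁, w, Category.assoc, pullback.condition]
    have e₂ : g₂ ≫ q.left = w ≫ f₂ := by simp only [g₂, w, Category.assoc, ← pullback.condition]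
    let S : Over (Spec (CommRingCat.of k)) := Over.mk (g₁ ≫ G.hom)
    have hfw : f₁ ≫ Q.hom = f₂ ≫ Q.hom := by rw [← Over.w emb, reassoc_of% hf]
    let z₁ : S ⟶ G := Over.homMk g₁ rfl
    let z₂ : S ⟶ G := Over.homMk g₂ (by
      show g₂ ≫ _ = g₁ ≫ _
      rw [← Over.w q, reassoc_of% e₂, reassoc_of% e₁, hfw])
    have h : z₁ ≫ θ = z₂ ≫ θ := Over.OverMorphism.ext (by
      show g₁ ≫ θ.left = g₂ ≫ θ.left
      rw [← hemb, Over.comp_left, reassoc_of% e₁, reassoc_of% e₂, hf])
    rw [← e₁, ← e₂]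
    exact congrArg CommaMorphism.left ((hkp z₁ z₂).1 h)
  have : Mono emb := Over.mono_of_mono_left emb
  -- the preimage of the orbit is everything
  obtain ⟨τ, hτ⟩ : ∃ τ, τ = pullback.fst ζ emb := ⟨_, rfl⟩
  have sqτ : IsPullback τ.left (pullback.snd ζ emb).left ζ.left emb.left :=
    hτ ▸ (IsPullback.of_hasPullback ζ emb).map (Over.forget _)
  have : IsClosedImmersion τ.left := MorphismProperty.of_isPullback (P := @IsClosedImmersion) sqτ.flip hembcl
  have hrange : Set.range τ.left = ζ.left ⁻¹' Set.range emb.left := by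
    ext y
    constructor
    · rintro ⟨x, rfl⟩
      exact ⟨(pullback.snd ζ emb).left x, by rw [← Scheme.Hom.comp_apply, ← sqτ.w, Scheme.Hom.comp_apply]⟩
    · rintro ⟨x, hx⟩
      obtain ⟨w, hw, -⟩ := Scheme.exists_preimage_of_isPullback sqτ y x hx.symm
      exact ⟨w, hw⟩
  let j₀ : Over.mk (τ.left ≫ T.hom) ⟶ T := Over.homMk τ.left rfl
  let κ₀ : (Over.map π).obj (Over.mk (τ.left ≫ T.hom)) ⟶ pullback ζ emb := Over.homMk (𝟙 _) (by
    show 𝟙 _ ≫ (pullback ζ emb).hom = (τ.left ≫ T.hom) ≫ π
    rw [Category.id_comp, ← Over.w τ, Category.assoc]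
    rfl)
  have hj₀ : (Over.map π).map j₀ = κ₀ ≫ τ := Over.OverMorphism.ext (Category.id_comp _).symm
  have hsurj : Surjective (τ.left ≫ T.hom) := by
    have hcl : IsClopen (Set.range τ.left) := hrange ▸
      ((isClopen_discrete (Set.range emb.left)).preimage ζ.left.continuous)
    have hcl' : IsClopen (T.hom '' Set.range τ.left) :=
      ⟨T.hom.isClosedMap _ hcl.isClosed, T.hom.isOpenMap _ hcl.isOpen⟩
    obtain ⟨pt⟩ : Nonempty (Spec (CommRingCat.of k)) := inferInstance
    have hmem : t pt ∈ Set.range τ.left := by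
      rw [hrange]
      refine ⟨((η[G] : 𝟙_ (Over (Spec (CommRingCat.of k))) ⟶ G) ≫ q).left pt, ?_⟩
      have h1 : ((η[G] : 𝟙_ (Over (Spec (CommRingCat.of k))) ⟶ G) ≫ q) ≫ emb = tk ≫ ζ := by
        have hη : (1 : 𝟙_ (Over (Spec (CommRingCat.of k))) ⟶ G) = η := by
          rw [Hom.one_def, toUnit_unique (toUnit _) (𝟙 _), Category.id_comp]
        rw [Category.assoc, hemb, hθ, ← hη, SchTorsor.one_act_pt, toUnit_unique (toUnit _) (𝟙 _), Category.id_comp, hz]
      rw [← Scheme.Hom.comp_apply, ← Over.comp_left, h1]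
      rfl
    have hu : T.hom '' Set.range τ.left = Set.univ :=
      (isClopen_iff.1 hcl').resolve_left (Set.nonempty_iff_ne_empty.1 ⟨_, _, hmem, rfl⟩)
    exact ⟨fun y => by
      obtain ⟨_, ⟨w, rfl⟩, hw⟩ := hu.symm ▸ Set.mem_univ y
      exact ⟨w, hw⟩⟩
  obtain ⟨Ψ, hΨ⟩ : ∃ Ψ, Ψ = (G ◁ (Over.map π).map j₀) ≫ (Rel.action π a).act := ⟨_, rfl⟩
  have sh : IsPullback Ψ.left (snd G ((Over.map π).obj (Over.mk (τ.left ≫ T.hom)))).left T.hom (τ.left ≫ T.hom) :=
    hΨ ▸ (isPullback_shear π a hT.1 j₀).map (Over.forget _)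
  have : QuasiCompact (τ.left ≫ T.hom) := inferInstance
  have : IsSchemeTheoreticallyDominant (τ.left ≫ T.hom) := by
    have : IsDominant (τ.left ≫ T.hom) := inferInstance
    exact IsSchemeTheoreticallyDominant.of_isDominant _
  have hΨd : IsSchemeTheoreticallyDominant Ψ.left := IsSchemeTheoreticallyDominant.of_isPullback sh.flip
  have hfacΨ : ∃ w, w ≫ τ = Ψ := by
    have : (Ψ ≫ ζ) = (lift (fst _ _) (snd _ _ ≫ κ₀ ≫ pullback.snd ζ emb) ≫ aQ.act) ≫ emb := by
      have he : aQ.act ≫ emb = (G ◁ emb) ≫ c.act := by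
        have : Surjective (G ◁ q).left := MorphismProperty.of_isPullback (P := @Surjective)
          ((isPullback_snd_whiskerLeft G q).map (Over.forget _)) ‹Surjective q.left›
        have : Flat (G ◁ q).left := MorphismProperty.of_isPullback (P := @Flat)
          ((isPullback_snd_whiskerLeft G q).map (Over.forget _)) ‹Flat q.left›
        have : LocallyOfFinitePresentation (G ◁ q).left := MorphismProperty.of_isPullback
          (P := @LocallyOfFinitePresentation) ((isPullback_snd_whiskerLeft G q).map (Over.forget _)) ‹_›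
        have : EffectiveEpi (G ◁ q).left := inferInstance
        have : Epi (G ◁ q) := Over.epi_of_epi_left _
        rw [← cancel_epi (G ◁ q), ← whiskerLeft_comp_assoc, hemb]
        refine AlgGrp.Action.hom_ext_lift₂ fun S g g' => ?_
        have hoq : ∀ {S : Over (Spec (CommRingCat.of k))} (g : S ⟶ G), g ≫ q = lift g (toUnit S ≫ o) ≫ aQ.act :=
          fun {S} g => by
            rw [hq]
            show g ≫ lift (𝟙 G) (toUnit G ≫ o) ≫ aQ.act = _
            rw [comp_lift_assoc, Category.comp_id, ← Category.assoc g, toUnit_unique (g ≫ toUnit G) (toUnit S)]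
        rw [lift_whiskerLeft_assoc, lift_whiskerLeft_assoc, hoq, ← Category.assoc, ← SchTorsor.act_assoc, ← hoq,
          Category.assoc, hemb, hθ, hθ, SchTorsor.act_assoc]
      rw [Category.assoc, he, lift_whiskerLeft_assoc, Category.assoc, Category.assoc, ← pullback.condition,
        ← Category.assoc κ₀, (hj₀.trans (congrArg (κ₀ ≫ ·) hτ)).symm, hΨ, Category.assoc, hc, ← whiskerLeft_comp_assoc,
        ← whiskerLeft_fst (X := G) ((Over.map π).map j₀ ≫ ζ), ← whiskerLeft_snd, ← comp_lift_assoc, lift_fst_snd,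
        Category.id_comp]
    exact ⟨pullback.lift _ _ this, (congrArg (pullback.lift _ _ this ≫ ·) hτ).trans (pullback.lift_fst _ _ _)⟩
  have hτiso : IsIso τ.left := by
    obtain ⟨w, hw⟩ := hfacΨ
    rw [IsClosedImmersion.isIso_iff_ker_eq_bot, ← le_bot_iff, ← hΨd.ker_eq_bot, ← hw]
    exact Scheme.Hom.le_ker_comp w.left τ.left
  -- so the orbit is everything
  obtain ⟨σ, hσ⟩ : ∃ σ : (Over.map π).obj T ⟶ Q, σ ≫ emb = ζ := by
    have : IsIso τ := by
      have : IsIso ((Over.forget _).map τ) := hτiso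
      exact isIso_of_reflects_iso τ (Over.forget _)
    exact ⟨inv τ ≫ pullback.snd ζ emb, by rw [Category.assoc, ← pullback.condition, ← hτ, IsIso.inv_hom_id_assoc]⟩
  have hembiso : IsIso emb.left := by
    rw [IsClosedImmersion.isIso_iff_ker_eq_bot, ← le_bot_iff, ← Scheme.ker_toSpecΓ (X := T.left)]
    have : T.left.toSpecΓ = σ.left ≫ emb.left := (congrArg CommaMorphism.left hσ).symm
    rw [this]
    exact Scheme.Hom.le_ker_comp σ.left emb.left
  have e : (c.orbitMap z).left = q.left ≫ emb.left := by rw [← hθdef, ← hemb]; rfl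
  have : Flat (c.orbitMap z).left := by rw [e]; infer_instance
  have : Surjective (c.orbitMap z).left := by rw [e]; infer_instance
  have : LocallyOfFinitePresentation (c.orbitMap z).left := by rw [e]; infer_instance
  obtain ⟨H', _, i', _, _, V, j, _, b, hb, hj, hjz⟩ := exists_subtorsor π a hT c ζ hc z
  have := hNori H' i' V j b hb hj
  have hconst : ζ = toUnit _ ≫ z := by
    rw [← cancel_epi ((Over.map π).map j), hjz, ← Category.assoc, toUnit_unique (_ ≫ toUnit _) (toUnit _)]
  -- conclusion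
  have hleft : T.left.toSpecΓ = (T.hom ≫ π) ≫ z.left := by
    have := congrArg CommaMorphism.left hconst
    exact this.trans (by rw [← (show (toUnit ((Over.map π).obj T)).left = T.hom ≫ π from
      (Category.comp_id _).symm.trans (Over.w (toUnit ((Over.map π).obj T))))]; rfl)
  constructor
  · refine Function.LeftInverse.injective (g := t.appTop.hom) fun x => ?_
    show (t ≫ T.hom ≫ π).appTop.hom x = x
    rw [ht]; rfl
  · intro y
    obtain ⟨x, rfl⟩ := (ConcreteCategory.bijective_of_isIso T.left.toSpecΓ.appTop).2 y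
    refine ⟨z.left.appTop.hom x, ?_⟩
    show ((T.hom ≫ π) ≫ z.left).appTop.hom x = _
    rw [← hleft]

end Groth.Agent.NonAbLib.NoriReduced
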