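import Groth.Agent.GrpSchLib.HomogeneousQuot
import Groth.Agent.NonAbLib.RelTorsor
import Groth.Agent.AlgSpDec.QuasiAffineDescent
import Groth.Agent.SchTorsor.Props
import Groth.Agent.S10832
import Mathlib.AlgebraicGeometry.Artinian
import Mathlib.AlgebraicGeometry.Morphisms.QuasiFinite
import Mathlib.AlgebraicGeometry.Morphisms.SchemeTheoreticallyDominant

/-!
# Morphisms to affine schemes and orbits of finite group schemes
-/

universe u

open CategoryTheory CategoryTheory.Limits MonoidalCategory CartesianMonoidalCategory MonObj GrpObj AlgebraicGeometry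

namespace Groth.Agent.NonAbLib.NoriReduced

/-- If all global functions come from the base, morphisms to affine schemes are constant. -/
theorem eq_const_of_appTop_bijective {Y S Z : Scheme.{u}} [IsAffine Z] (s : Y ⟶ S) (t : S ⟶ Y) (ht : t ≫ s = 𝟙 S)
    (hs : Function.Bijective s.appTop.hom) (f : Y ⟶ Z) : f = s ≫ t ≫ f := by
  refine ext_of_isAffine ?_
  have h : t.appTop ≫ s.appTop = 𝟙 _ := by
    ext y
    obtain ⟨x, rfl⟩ := hs.2 y
    have h1 : (t ≫ s).appTop.hom x = x := by rw [ht]; rfl
    exact congrArg s.appTop.hom h1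
  rw [Scheme.Hom.comp_appTop, Scheme.Hom.comp_appTop, Category.assoc, h, Category.comp_id]

/-- A morphism to an affine scheme factors uniquely through one inducing a bijection on global functions. -/
theorem existsUnique_factor {Y W Z : Scheme.{u}} [IsAffine Z] [IsAffine W] (ζ : Y ⟶ W) [IsIso ζ.appTop]
    (f : Y ⟶ Z) : ∃! g : W ⟶ Z, ζ ≫ g = f := by
  have h : ∀ φ : Γ(Z, ⊤) ⟶ Γ(W, ⊤), (W.isoSpec.hom ≫ Spec.map φ ≫ Z.isoSpec.inv).appTop = φ := fun φ => by
    simp [Scheme.isoSpec]
  refine ⟨W.isoSpec.hom ≫ Spec.map (f.appTop ≫ inv ζ.appTop) ≫ Z.isoSpec.inv, ext_of_isAffine ?_, fun g hg => ?_⟩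
  · rw [Scheme.Hom.comp_appTop, h, Category.assoc, IsIso.inv_hom_id, Category.comp_id]
  · refine ext_of_isAffine ?_
    rw [h, ← cancel_mono ζ.appTop, ← Scheme.Hom.comp_appTop, hg, Category.assoc, IsIso.inv_hom_id, Category.comp_id]

variable {k : Type u} [Field k]

theorem isPullback_snd_whiskerLeft {S : Scheme.{u}} (W : Over S) {Y Z : Over S} (ζ : Y ⟶ Z) :
    IsPullback (snd W Y) (W ◁ ζ) ζ (snd W Z) :=
  isPullback_of_points (by simp) fun T y z h => by
    refine ⟨lift (z ≫ fst W Z) y, ⟨lift_snd _ _, ?_⟩, fun t ⟨h1, h2⟩ => ?_⟩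
    · rw [lift_whiskerLeft, h]
      exact lift_comp_fst_snd _
    · refine CartesianMonoidalCategory.hom_ext _ _ ?_ (by rw [h1, lift_snd])
      rw [lift_fst, ← h2]
      simp

/-- Base change of an isomorphism on global functions to an affine scheme stays one. -/
theorem isIso_appTop_whiskerLeft {Y Z W : Over (Spec (CommRingCat.of k))} (ζ : Y ⟶ Z) [IsIso ζ.left.appTop]
    [IsAffine Z.left] [IsAffine W.left] [CompactSpace Y.left] [QuasiSeparatedSpace Y.left] :
    IsIso (W ◁ ζ).left.appTop := by
  have H : IsPullback (snd W Y).left (W ◁ ζ).left ζ.left (snd W Z).left :=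
    (isPullback_snd_whiskerLeft W ζ).map (Over.forget _)
  have : IsAffine (W ⊗ Z).left := inferInstanceAs (IsAffine (pullback W.hom Z.hom))
  have : Flat (snd W Z).left := inferInstanceAs (Flat (pullback.snd W.hom Z.hom))
  exact (AlgSpDec.isPushout_appTop H).isIso_inr_of_isIso

/-- An affine scheme locally of finite type over a field with finitely many points, all open, is finite. -/
theorem isFinite_of_discrete (Q : Over (Spec (CommRingCat.of k))) [LocallyOfFiniteType Q.hom] [IsAffine Q.left]
    [DiscreteTopology Q.left] : IsFinite Q.hom :=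
  (HasAffineProperty.iff_of_isAffine (P := @IsFinite)).2 ⟨inferInstance, S10832.finite_appTop_of_discrete k Q.hom⟩

/-- A homogeneous space of a finite group scheme over a field is finite. -/
theorem isAffine_and_isFinite_of_surjective {G Q : Over (Spec (CommRingCat.of k))} [IsFinite G.hom]
    [LocallyOfFiniteType Q.hom] (q : G ⟶ Q) [Surjective q.left] [Flat q.left] :
    IsAffine Q.left ∧ IsFinite Q.hom := by
  have : LocallyOfFiniteType (q.left ≫ Q.hom) := by rw [Over.w q]; infer_instance
  have : LocallyOfFiniteType q.left := locallyOfFiniteType_of_comp q.left Q.hom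
  have : IsLocallyNoetherian Q.left := LocallyOfFiniteType.isLocallyNoetherian Q.hom
  have : UniversallyOpen q.left := inferInstance
  have : IsAffine G.left := isAffine_of_isAffineHom G.hom
  have : DiscreteTopology G.left := S10832.discrete_of_finite k G.hom G.hom.finite_appTop
  have : Finite G.left := finite_of_compact_of_discrete
  have : Finite Q.left := Finite.of_surjective _ q.left.surjective
  have : DiscreteTopology Q.left := discreteTopology_iff_forall_isOpen.2 fun s => by
    rw [← s.image_preimage_eq q.left.surjective]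
    exact q.left.isOpenMap _ (isOpen_discrete _)
  have : IsAffine Q.left := inferInstance
  exact ⟨inferInstance, isFinite_of_discrete Q⟩

end Groth.Agent.NonAbLib.NoriReduced
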