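import Groth.Agent.NonAbLib.NoriReduced.Basic

/-!
# Torsors with only constant functions have no proper subtorsors
-/

universe u

open CategoryTheory CategoryTheory.Limits MonoidalCategory CartesianMonoidalCategory MonObj GrpObj AlgebraicGeometry

namespace Groth.Agent.NonAbLib.NoriReduced

variable {k : Type u} [Field k] {X : Scheme.{u}} (π : X ⟶ Spec (CommRingCat.of k))
  {G : Over (Spec (CommRingCat.of k))} [GrpObj G] {T : Over X} (a : AlgGrp.Action (Red.bc π G) T)

/-- The shear square of a torsor against an object lying over it. -/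
theorem isPullback_shear (ha : NonAbH1.IsPseudoTorsorSch a) {V : Over X} (j : V ⟶ T) :
    IsPullback ((G ◁ (Over.map π).map j) ≫ (Rel.action π a).act) (snd G ((Over.map π).obj V))
      (Rel.proj π T) (Rel.proj π V) := by
  have hj : (Over.map π).map j ≫ Rel.proj π T = Rel.proj π V := Over.OverMorphism.ext (Over.w j)
  have hw : ((G ◁ (Over.map π).map j) ≫ (Rel.action π a).act) ≫ Rel.proj π T =
      snd G ((Over.map π).obj V) ≫ Rel.proj π V := by
    rw [Category.assoc, Rel.act_proj, ← Category.assoc, whiskerLeft_snd, Category.assoc, hj]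
  refine isPullback_of_points hw fun S y v h => ?_
  obtain ⟨g, hg, hu⟩ := Rel.free π a ha y (v ≫ (Over.map π).map j) (by rw [Category.assoc, hj, h])
  refine ⟨lift g v, ⟨by rw [lift_whiskerLeft_assoc]; exact hg, lift_snd _ _⟩, fun z ⟨h1, h2⟩ => ?_⟩
  refine CartesianMonoidalCategory.hom_ext _ _ ?_ (by rw [h2, lift_snd])
  rw [lift_fst]
  refine hu _ ?_
  rw [show z = lift (z ≫ fst _ _) v by rw [← h2, lift_comp_fst_snd], lift_whiskerLeft_assoc] at h1
  exact h1

/-- The projection of a torsor under a base changed group of finite type is a covering. -/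
theorem surjective_flat_lfp [LocallyOfFiniteType G.hom] (ha : NonAbH1.IsTorsorFor Scheme.fppfPrecoverage a) :
    Surjective T.hom ∧ Flat T.hom ∧ LocallyOfFinitePresentation T.hom := by
  have ha' := torsor_mono fppf_le_fpqc ha
  exact ⟨SchTorsor.surjective_hom ha',
    SchTorsor.torsor_property @Flat ha' (inferInstanceAs (Flat (pullback.snd G.hom π))),
    SchTorsor.torsor_property @LocallyOfFinitePresentation ha'
      (inferInstanceAs (LocallyOfFinitePresentation (pullback.snd G.hom π)))⟩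

theorem isIso_of_appTop_bijective [IsFinite G.hom] [Nonempty X] (t : Spec (CommRingCat.of k) ⟶ T.left)
    (ht : t ≫ T.hom ≫ π = 𝟙 _) (hT : NonAbH1.IsTorsorFor Scheme.fppfPrecoverage a)
    (hΓ : Function.Bijective (T.hom ≫ π).appTop.hom)
    {H : Over (Spec (CommRingCat.of k))} [GrpObj H] (i : H ⟶ G) [IsMonHom i] [IsClosedImmersion i.left]
    [LocallyOfFiniteType π]
    {V : Over X} (j : V ⟶ T) [IsClosedImmersion j.left] (b : AlgGrp.Action (Red.bc π H) V)
    (hb : NonAbH1.IsTorsorFor Scheme.fppfPrecoverage b)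
    (hj : AlgGrp.Action.IsEquivariant b (a.restrict ((Over.pullback π).map i)) j) : IsIso j := by
  have : IsAffine G.left := isAffine_of_isAffineHom G.hom
  have : LocallyOfFiniteType H.hom := by rw [← Over.w i]; infer_instance
  have : QuasiCompact H.hom := by rw [← Over.w i]; infer_instance
  have : Mono i := Over.mono_of_mono_left i
  have : Mono ((Over.map π).map j) := by
    have : Mono ((Over.map π).map j).left := inferInstanceAs (Mono j.left)
    exact Over.mono_of_mono_left _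
  obtain ⟨Q, aQ, o, _, _, _, _, sq⟩ := GrpSchLib.HomogeneousQuot.exists_quot G H i
  obtain ⟨q, hq⟩ : ∃ q, q = aQ.orbitMap o := ⟨_, rfl⟩
  rw [← hq] at sq
  obtain ⟨_, _⟩ := isAffine_and_isFinite_of_surjective (G := G) (aQ.orbitMap o)
  obtain ⟨hVs, hVf, hVl⟩ := surjective_flat_lfp π b hb
  obtain ⟨jk, hjkdef⟩ : ∃ jk, jk = (Over.map π).map j := ⟨_, rfl⟩
  obtain ⟨act, hact⟩ : ∃ act, act = (Rel.action π a).act := ⟨_, rfl⟩
  have hjk : ∀ {S : Over (Spec (CommRingCat.of k))} (h : S ⟶ H) (y : S ⟶ (Over.map π).obj V),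
      (lift h y ≫ (Rel.action π b).act) ≫ jk = lift (h ≫ i) (y ≫ jk) ≫ act := by
    intro S h y
    obtain ⟨W, κ, y', hκ, hy⟩ := Rel.exists_rep π y
    rw [← cancel_epi κ, hjkdef, hact, ← Category.assoc κ, Rel.comp_act, hy, Rel.action_pt, ← Functor.map_comp,
      Category.assoc, hj, lift_whiskerLeft_assoc, Rel.comp_act, ← Category.assoc κ y, hy, ← Functor.map_comp,
      Rel.action_pt, AlgGrp.Action.lift_restrict_act, ← Category.assoc κ h i, Adjunction.homEquiv_naturality_right _ (κ ≫ h) i]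
  -- the shear map is a covering
  obtain ⟨Ψ, hΨ⟩ : ∃ Ψ, Ψ = (G ◁ jk) ≫ act := ⟨_, rfl⟩
  have sh : IsPullback Ψ.left (snd G ((Over.map π).obj V)).left T.hom V.hom := by
    have := (isPullback_shear π a hT.1 j).map (Over.forget _)
    rw [hΨ, hjkdef, hact]
    exact this
  have : Surjective Ψ.left := MorphismProperty.of_isPullback (P := @Surjective) sh.flip hVs
  have : Flat Ψ.left := MorphismProperty.of_isPullback (P := @Flat) sh.flip hVf
  have : LocallyOfFinitePresentation Ψ.left :=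
    MorphismProperty.of_isPullback (P := @LocallyOfFinitePresentation) sh.flip hVl
  -- the map to the quotient
  have hker : ∀ {Z : Scheme.{u}} (g₁ g₂ : Z ⟶ (G ⊗ (Over.map π).obj V).left), g₁ ≫ Ψ.left = g₂ ≫ Ψ.left →
      g₁ ≫ (fst G ((Over.map π).obj V) ≫ q).left = g₂ ≫ (fst G ((Over.map π).obj V) ≫ q).left := by
    intro Z g₁ g₂ h
    let S : Over (Spec (CommRingCat.of k)) := Over.mk (g₁ ≫ (G ⊗ (Over.map π).obj V).hom)
    let z₁ : S ⟶ G ⊗ (Over.map π).obj V := Over.homMk g₁ rfl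
    let z₂ : S ⟶ G ⊗ (Over.map π).obj V := Over.homMk g₂ (by
      show g₂ ≫ _ = g₁ ≫ _
      rw [← Over.w Ψ, ← Category.assoc, ← h, Category.assoc])
    have hz : z₁ ≫ Ψ = z₂ ≫ Ψ := Over.OverMorphism.ext h
    have e : ∀ z : S ⟶ G ⊗ (Over.map π).obj V,
        z ≫ Ψ = lift (z ≫ fst _ _) ((z ≫ snd _ _) ≫ jk) ≫ act := fun z => by
      conv_lhs => rw [← lift_comp_fst_snd z]
      rw [hΨ, lift_whiskerLeft_assoc]
    rw [e, e] at hz
    generalize hg₁ : z₁ ≫ fst G _ = γ₁ at hz
    generalize hv₁ : z₁ ≫ snd G _ = v₁ at hz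
    generalize hg₂ : z₂ ≫ fst G _ = γ₂ at hz
    generalize hv₂ : z₂ ≫ snd G _ = v₂ at hz
    have hp : v₁ ≫ Rel.proj π V = v₂ ≫ Rel.proj π V := by
      have hjp : jk ≫ Rel.proj π T = Rel.proj π V := hjkdef ▸ Over.OverMorphism.ext (Over.w j)
      have := congrArg (· ≫ Rel.proj π T) hz
      simpa only [hact, Category.assoc, Rel.act_proj, lift_snd_assoc, hjp] using this
    obtain ⟨h', hh, -⟩ := Rel.free π b hb.1 v₁ v₂ hp
    rw [← hh, hjk, hact, ← SchTorsor.act_assoc] at hz
    have hproj : (lift γ₂ (v₂ ≫ jk) ≫ (Rel.action π a).act) ≫ Rel.proj π T = (v₂ ≫ jk) ≫ Rel.proj π T :=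
      Rel.proj_pt π a _ _
    have hu := (Rel.free π a hT.1 _ (v₂ ≫ jk) hproj).unique hz rfl
    have hq' : γ₁ ≫ q = γ₂ ≫ q := by
      rw [← hu]
      have := congrArg (lift γ₁ h' ≫ ·) sq.w
      rw [Hom.mul_def, Category.assoc]
      simpa [lift_whiskerLeft_assoc] using this
    have := congrArg CommaMorphism.left hq'
    rw [← hg₁, ← hg₂, Category.assoc, Category.assoc] at this
    exact this
  let m₀ := EffectiveEpi.desc Ψ.left (fst G ((Over.map π).obj V) ≫ q).left (fun g₁ g₂ h => hker g₁ g₂ h)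
  have hm₀ : Ψ.left ≫ m₀ = (fst G ((Over.map π).obj V) ≫ q).left := EffectiveEpi.fac _ _ _
  have hconst : m₀ = (T.hom ≫ π) ≫ t ≫ m₀ := eq_const_of_appTop_bijective _ t ht hΓ m₀
  -- the orbit map is constant
  have hw : t ≫ m₀ ≫ Q.hom = 𝟙 _ := by
    have h1 : Ψ.left ≫ m₀ ≫ Q.hom = Ψ.left ≫ T.hom ≫ π := by
      rw [← Category.assoc, hm₀]
      exact (Over.w (fst G ((Over.map π).obj V) ≫ q)).trans (Over.w Ψ).symm
    rw [(cancel_epi Ψ.left).1 h1, ht]
  obtain ⟨p₀, hp₀⟩ : ∃ p₀ : 𝟙_ (Over (Spec (CommRingCat.of k))) ⟶ Q, p₀.left = t ≫ m₀ :=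
    ⟨Over.homMk (t ≫ m₀) ((Category.assoc _ _ _).trans hw), rfl⟩
  have hfst : fst G ((Over.map π).obj V) ≫ q = fst G ((Over.map π).obj V) ≫ toUnit G ≫ p₀ := by
    refine Over.OverMorphism.ext ?_
    rw [← hm₀, hconst, ← Category.assoc]
    show (Ψ.left ≫ T.hom ≫ π) ≫ _ = (fst G _).left ≫ (toUnit G).left ≫ p₀.left
    rw [show T.hom ≫ π = ((Over.map π).obj T).hom from rfl, Over.w Ψ, ← Over.w (fst G ((Over.map π).obj V)),
      show (toUnit G).left = G.hom from (Category.comp_id _).symm.trans (Over.w (toUnit G)), hp₀, Category.assoc]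
  have : Nonempty V.left := ⟨(hVs.surj (Classical.arbitrary X)).choose⟩
  have hb1 : IsPullback (fst G ((Over.map π).obj V)).left (snd G ((Over.map π).obj V)).left G.hom (V.hom ≫ π) :=
    IsPullback.of_hasPullback _ _
  have : Surjective ((V.hom ≫ π)) := ⟨fun x => ⟨Classical.arbitrary V.left, Subsingleton.elim (α := Spec (CommRingCat.of k)) _ _⟩⟩
  have : Surjective (fst G ((Over.map π).obj V)).left := MorphismProperty.of_isPullback (P := @Surjective) hb1.flip ‹_›
  have : Flat (fst G ((Over.map π).obj V)).left := MorphismProperty.of_isPullback (P := @Flat) hb1.flip inferInstance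
  have : LocallyOfFinitePresentation (fst G ((Over.map π).obj V)).left :=
    MorphismProperty.of_isPullback (P := @LocallyOfFinitePresentation) hb1.flip inferInstance
  have : Epi (fst G ((Over.map π).obj V)) := by
    have : EffectiveEpi (fst G ((Over.map π).obj V)).left := inferInstance
    exact Over.epi_of_epi_left _
  rw [cancel_epi] at hfst
  have hall : ∀ {S : Over (Spec (CommRingCat.of k))} (g : S ⟶ G), ∃ h : S ⟶ H, h ≫ i = g := by
    intro S g
    have h1 : (1 : S ⟶ G) ≫ q = g ≫ q := by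
      rw [hfst, ← Category.assoc, ← Category.assoc, toUnit_unique ((1 : S ⟶ G) ≫ toUnit G) (g ≫ toUnit G)]
    obtain ⟨l, hl1, hl2⟩ := sq.exists_lift (1 : S ⟶ G) g h1
    refine ⟨l ≫ snd G H, ?_⟩
    rw [← lift_comp_fst_snd l, hl1, lift_whiskerLeft_assoc, ← Hom.mul_def, _root_.one_mul] at hl2
    exact hl2
  obtain ⟨σ, hσ⟩ := hall (𝟙 G)
  -- a section of `j`
  have hfac : Ψ = (lift (fst _ _ ≫ σ) (snd G ((Over.map π).obj V)) ≫ (Rel.action π b).act) ≫ jk := by
    rw [hjk, hΨ, Category.assoc (fst _ _), hσ, Category.comp_id, ← whiskerLeft_fst (X := G) jk, ← whiskerLeft_snd,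
      ← comp_lift_assoc, lift_fst_snd, Category.id_comp]
  obtain ⟨w, hw⟩ : ∃ w, w = lift (fst _ _ ≫ σ) (snd G ((Over.map π).obj V)) ≫ (Rel.action π b).act := ⟨_, rfl⟩
  rw [← hw] at hfac
  obtain ⟨mj, -, hmj⟩ := AlgStLib.MonoFactor.exists_lift_of_fppf Ψ.left (𝟙 T.left) w.left j.left (by
    conv_rhs => rw [hfac, hjkdef]
    exact (Category.comp_id _).symm)
  have : IsIso j.left := ⟨mj, (cancel_mono j.left).1 (by rw [Category.assoc, hmj, Category.comp_id, Category.id_comp]), hmj⟩
  have : IsIso ((Over.forget X).map j) := ‹_›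
  exact isIso_of_reflects_iso j (Over.forget X)

end Groth.Agent.NonAbLib.NoriReduced
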