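import Groth.Agent.NonAbLib.NoriReduced.Forward
import Groth.Agent.EqIntLib.StabFibre
import Groth.Agent.GrpSchLib.MonoSubgroup

/-!
# The action on the spectrum of global functions, and stabilisers
-/

universe u

open CategoryTheory CategoryTheory.Limits MonoidalCategory CartesianMonoidalCategory MonObj GrpObj AlgebraicGeometry

namespace Groth.Agent.NonAbLib.NoriReduced

variable {k : Type u} [Field k] {G : Over (Spec (CommRingCat.of k))} [GrpObj G]

/-- Unique factorisation through a morphism which is an isomorphism on global functions, over the base. -/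
theorem existsUnique_factor_over {Y Z Z' W : Over (Spec (CommRingCat.of k))} (ζ : Y ⟶ Z) [IsIso ζ.left.appTop]
    [IsAffine Z.left] [IsAffine Z'.left] [IsAffine W.left] [CompactSpace Y.left] [QuasiSeparatedSpace Y.left]
    (f : W ⊗ Y ⟶ Z') : ∃! g : W ⊗ Z ⟶ Z', (W ◁ ζ) ≫ g = f := by
  have := isIso_appTop_whiskerLeft (W := W) ζ
  have : IsAffine (W ⊗ Z).left := inferInstanceAs (IsAffine (pullback W.hom Z.hom))
  obtain ⟨g₀, hg₀, hu⟩ := existsUnique_factor (W ◁ ζ).left f.left
  refine ⟨Over.homMk g₀ ?_, Over.OverMorphism.ext hg₀, fun g hg =>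
    Over.OverMorphism.ext (hu _ (congrArg CommaMorphism.left hg))⟩
  refine (existsUnique_factor (W ◁ ζ).left (W ⊗ Y).hom).unique ?_ (Over.w _)
  rw [← Category.assoc, hg₀]
  exact Over.w f

/-- An action descends along a morphism to an affine scheme which is an isomorphism on global functions. -/
theorem exists_action [IsAffine G.left] {Y Z : Over (Spec (CommRingCat.of k))} (a : AlgGrp.Action G Y) (ζ : Y ⟶ Z)
    [IsIso ζ.left.appTop] [IsAffine Z.left] [CompactSpace Y.left] [QuasiSeparatedSpace Y.left] :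
    ∃ c : AlgGrp.Action G Z, a.act ≫ ζ = (G ◁ ζ) ≫ c.act := by
  obtain ⟨g, hg, -⟩ := existsUnique_factor_over (W := G) ζ (a.act ≫ ζ)
  have : IsAffine (𝟙_ (Over (Spec (CommRingCat.of k)))).left := inferInstanceAs (IsAffine (Spec _))
  have : IsAffine (G ⊗ G).left := inferInstanceAs (IsAffine (pullback G.hom G.hom))
  refine ⟨{ act := g, one_act := ?_, mul_act := ?_ }, hg.symm⟩
  · refine (existsUnique_factor_over (W := 𝟙_ _) ζ ((λ_ Y).hom ≫ ζ)).unique ?_ (leftUnitor_naturality ζ)
    rw [← Category.assoc, whisker_exchange, Category.assoc, hg, ← Category.assoc, a.one_act]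
  · refine (existsUnique_factor_over (W := G ⊗ G) ζ ((α_ G G Y).hom ≫ (G ◁ a.act) ≫ a.act ≫ ζ)).unique ?_ ?_
    · rw [← Category.assoc, whisker_exchange, Category.assoc, hg, ← Category.assoc, a.mul_act]
      simp only [Category.assoc]
    · rw [associator_naturality_right_assoc, ← whiskerLeft_comp_assoc, hg, whiskerLeft_comp_assoc, hg]

/-- The stabiliser of a rational point. -/
theorem exists_stab [IsFinite G.hom] {Z : Over (Spec (CommRingCat.of k))} [IsAffine Z.left] (c : AlgGrp.Action G Z)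
    (z : 𝟙_ (Over (Spec (CommRingCat.of k))) ⟶ Z) :
    ∃ (H : Over (Spec (CommRingCat.of k))) (_ : GrpObj H) (i : H ⟶ G), IsMonHom i ∧ IsClosedImmersion i.left ∧
      ∀ (S : Over (Spec (CommRingCat.of k))) (g : S ⟶ G),
        (∃ h : S ⟶ H, h ≫ i = g) ↔ lift g (toUnit S ≫ z) ≫ c.act = toUnit S ≫ z := by
  let θ := c.orbitMap z
  have hθ : ∀ {S : Over (Spec (CommRingCat.of k))} (g : S ⟶ G), g ≫ θ = lift g (toUnit S ≫ z) ≫ c.act :=
    fun {S} g => by
      show g ≫ lift (𝟙 G) (toUnit G ≫ z) ≫ c.act = _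
      rw [comp_lift_assoc, Category.comp_id, ← Category.assoc g, toUnit_unique (g ≫ toUnit G) (toUnit S)]
  have hmem : ∀ (S : Over (Spec (CommRingCat.of k))) (g : S ⟶ G),
      (∃ h : S ⟶ pullback θ z, h ≫ pullback.fst θ z = g) ↔ g ∈ EqIntLib.fixSubgroup c (toUnit S ≫ z) := by
    intro S g
    rw [EqIntLib.mem_fixSubgroup]
    constructor
    · rintro ⟨h, rfl⟩
      rw [← hθ, Category.assoc, pullback.condition, ← Category.assoc, toUnit_unique (h ≫ pullback.snd θ z) (toUnit S)]
    · intro hg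
      exact ⟨pullback.lift g (toUnit S) ((hθ g).trans hg), pullback.lift_fst _ _ _⟩
  have : IsClosedImmersion (pullback.fst θ z).left := by
    have : IsClosedImmersion (z.left ≫ Z.hom) := by rw [Over.w z]; exact inferInstanceAs (IsClosedImmersion (𝟙 _))
    have : IsSeparated Z.hom := inferInstance
    have : IsClosedImmersion z.left := IsClosedImmersion.of_comp z.left Z.hom
    exact MorphismProperty.of_isPullback (P := @IsClosedImmersion)
      ((IsPullback.of_hasPullback θ z).map (Over.forget _)).flip ‹_›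
  have : Mono (pullback.fst θ z) := Over.mono_of_mono_left _
  obtain ⟨e, he⟩ := (hmem _ η[G]).2 (by
    have := (EqIntLib.fixSubgroup c (toUnit (𝟙_ _) ≫ z)).one_mem
    rwa [Hom.one_def, toUnit_unique (toUnit (𝟙_ _)) (𝟙 _), Category.id_comp] at this)
  have hi : ∀ {S : Over (Spec (CommRingCat.of k))} (h : S ⟶ pullback θ z),
      h ≫ pullback.fst θ z ∈ EqIntLib.fixSubgroup c (toUnit S ≫ z) := fun h => (hmem _ _).1 ⟨h, rfl⟩
  obtain ⟨m, hm⟩ := (hmem _ _).2 (mul_mem (hi (fst (pullback θ z) (pullback θ z))) (hi (snd _ _)))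
  obtain ⟨v, hv⟩ := (hmem _ _).2 (inv_mem (hi (𝟙 (pullback θ z))))
  rw [Category.id_comp] at hv
  obtain ⟨str, hstr⟩ := GrpSchLib.exists_grpObj_of_mono (pullback.fst θ z) e he m hm v hv
  exact ⟨pullback θ z, str, pullback.fst θ z, hstr, ‹_›, fun S g => (hmem S g).trans (EqIntLib.mem_fixSubgroup _ _ _)⟩

end Groth.Agent.NonAbLib.NoriReduced
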