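import Groth.Agent.NonAbLib.NoriReduced.Orbit

/-!
# Fibres of homogeneous points are subtorsors
-/

universe u

open CategoryTheory CategoryTheory.Limits MonoidalCategory CartesianMonoidalCategory MonObj GrpObj AlgebraicGeometry

namespace Groth.Agent.NonAbLib.NoriReduced

variable {k : Type u} [Field k] {X : Scheme.{u}} (π : X ⟶ Spec (CommRingCat.of k))
  {G : Over (Spec (CommRingCat.of k))} [GrpObj G] {T : Over X} (a : AlgGrp.Action (Red.bc π G) T)

/-- The fibre of a point which is homogeneous is a torsor under the stabiliser. -/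
theorem exists_subtorsor [IsFinite G.hom] (hT : NonAbH1.IsTorsorFor Scheme.fppfPrecoverage a)
    {Z : Over (Spec (CommRingCat.of k))} [IsAffine Z.left] (c : AlgGrp.Action G Z)
    (ζ : (Over.map π).obj T ⟶ Z) (hζ : (Rel.action π a).act ≫ ζ = (G ◁ ζ) ≫ c.act)
    (z : 𝟙_ (Over (Spec (CommRingCat.of k))) ⟶ Z) [Flat (c.orbitMap z).left] [Surjective (c.orbitMap z).left]
    [LocallyOfFinitePresentation (c.orbitMap z).left] :
    ∃ (H : Over (Spec (CommRingCat.of k))) (_ : GrpObj H) (i : H ⟶ G) (_ : IsMonHom i) (_ : IsClosedImmersion i.left)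
      (V : Over X) (j : V ⟶ T) (_ : IsClosedImmersion j.left) (b : AlgGrp.Action (Red.bc π H) V),
      NonAbH1.IsTorsorFor Scheme.fppfPrecoverage b ∧
      AlgGrp.Action.IsEquivariant b (a.restrict ((Over.pullback π).map i)) j ∧
      (Over.map π).map j ≫ ζ = toUnit _ ≫ z := by
  obtain ⟨H, strH, i, himon, hicl, hH⟩ := exists_stab c z
  have : Mono i := Over.mono_of_mono_left i
  obtain ⟨θ, hθdef⟩ : ∃ θ, θ = c.orbitMap z := ⟨_, rfl⟩
  have hθ : ∀ {S : Over (Spec (CommRingCat.of k))} (g : S ⟶ G), g ≫ θ = lift g (toUnit S ≫ z) ≫ c.act :=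
    fun {S} g => by
      rw [hθdef]
      show g ≫ lift (𝟙 G) (toUnit G ≫ z) ≫ c.act = _
      rw [comp_lift_assoc, Category.comp_id, ← Category.assoc g, toUnit_unique (g ≫ toUnit G) (toUnit S)]
  -- the fibre
  obtain ⟨vk, hvkdef⟩ : ∃ vk, vk = pullback.fst ζ z := ⟨_, rfl⟩
  have hvcl : IsClosedImmersion vk.left := by
    have : IsClosedImmersion (z.left ≫ Z.hom) := by rw [Over.w z]; exact inferInstanceAs (IsClosedImmersion (𝟙 _))
    have : IsClosedImmersion z.left := IsClosedImmersion.of_comp z.left Z.hom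
    rw [hvkdef]
    exact MorphismProperty.of_isPullback (P := @IsClosedImmersion)
      ((IsPullback.of_hasPullback ζ z).map (Over.forget _)).flip ‹_›
  let V : Over X := Over.mk (vk.left ≫ T.hom)
  let j : V ⟶ T := Over.homMk vk.left rfl
  have hjcl : IsClosedImmersion j.left := hvcl
  have : Mono j := Over.mono_of_mono_left _
  have memV : ∀ {W : Over X} (y : W ⟶ T),
      (∃ v : W ⟶ V, v ≫ j = y) ↔ (Over.map π).map y ≫ ζ = toUnit _ ≫ z := by
    intro W y
    constructor
    · rintro ⟨v, rfl⟩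
      let κ : (Over.map π).obj W ⟶ pullback ζ z := Over.homMk v.left (by
        show v.left ≫ (pullback ζ z).hom = W.hom ≫ π
        rw [← Over.w vk, ← Over.w v]
        simp [V])
      have hv : (Over.map π).map (v ≫ j) = κ ≫ vk := Over.OverMorphism.ext rfl
      rw [hv, hvkdef, Category.assoc, pullback.condition, ← Category.assoc, toUnit_unique (κ ≫ _) (toUnit _)]
    · intro h
      obtain ⟨κ, hκ⟩ : ∃ κ : (Over.map π).obj W ⟶ pullback ζ z, κ ≫ vk = (Over.map π).map y :=
        ⟨pullback.lift _ _ h, by rw [hvkdef]; exact pullback.lift_fst _ _ _⟩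
      have hκ' : κ.left ≫ vk.left = y.left := congrArg CommaMorphism.left hκ
      refine ⟨Over.homMk κ.left ?_, Over.OverMorphism.ext hκ'⟩
      show κ.left ≫ vk.left ≫ T.hom = W.hom
      rw [reassoc_of% hκ', Over.w y]
  have hact : ∀ {W : Over X} (g : (Over.map π).obj W ⟶ G) (y : W ⟶ T),
      (Over.map π).map (lift (Rel.he π g) y ≫ a.act) ≫ ζ = lift g ((Over.map π).map y ≫ ζ) ≫ c.act := fun g y => by
    rw [← Rel.action_pt, Category.assoc, hζ, lift_whiskerLeft_assoc]
  -- the action on it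
  obtain ⟨bact, hbact⟩ := (memV (lift (fst (Red.bc π H) V ≫ (Over.pullback π).map i) (snd _ V ≫ j) ≫ a.act)).2 (by
    obtain ⟨g, hg⟩ := (Rel.he π).surjective (fst (Red.bc π H) V)
    rw [← hg, ← Adjunction.homEquiv_naturality_right, hact, (memV (snd (Red.bc π H) V ≫ j)).1 ⟨_, rfl⟩]
    exact (hH _ _).1 ⟨g, rfl⟩)
  have hb : ∀ {W : Over X} (h : W ⟶ Red.bc π H) (v : W ⟶ V),
      (lift h v ≫ bact) ≫ j = lift (h ≫ (Over.pullback π).map i) (v ≫ j) ≫ a.act := fun h v => by
    rw [Category.assoc, hbact, comp_lift_assoc, lift_fst_assoc, lift_snd_assoc]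
  let b : AlgGrp.Action (Red.bc π H) V :=
    { act := bact
      one_act := AlgGrp.Action.hom_ext_lift₂ fun W u v => by
        have hu : u ≫ η[Red.bc π H] = 1 := by rw [Hom.one_def, toUnit_unique u (toUnit W)]
        rw [lift_whiskerRight_assoc, hu, lift_leftUnitor_hom, ← cancel_mono j, hb, MonObj.one_comp,
          SchTorsor.one_act_pt]
      mul_act := AlgGrp.Action.hom_ext_lift₃ fun W g g' v => by
        rw [lift_whiskerRight_assoc, ← Hom.mul_def, lift_lift_associator_hom_assoc, lift_whiskerLeft_assoc,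
          ← cancel_mono j, hb, hb, hb, MonObj.mul_comp, SchTorsor.act_assoc] }
  have hfree : ∀ (W : Over X) (x y : W ⟶ V), ∃! h : W ⟶ Red.bc π H, lift h y ≫ bact = x := by
    intro W x y
    obtain ⟨g, hg⟩ := SchTorsor.exists_div hT.1 (x ≫ j) (y ≫ j)
    obtain ⟨gg, hgg⟩ := (Rel.he π).surjective g
    have h1 := (memV (x ≫ j)).1 ⟨x, rfl⟩
    rw [← hg, ← hgg, hact, (memV (y ≫ j)).1 ⟨y, rfl⟩] at h1
    obtain ⟨h, hh⟩ := (hH _ gg).2 h1
    have e : Rel.he π h ≫ (Over.pullback π).map i = g := by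
      rw [← Adjunction.homEquiv_naturality_right, hh, hgg]
    refine ⟨Rel.he π h, ?_, fun h' hh' => ?_⟩
    · show lift (Rel.he π h) y ≫ bact = x
      rw [← cancel_mono j, hb, e, hg]
    · have hh'' : lift (h' ≫ (Over.pullback π).map i) (y ≫ j) ≫ a.act = lift g (y ≫ j) ≫ a.act := by
        rw [hg, ← hb, show lift h' y ≫ bact = x from hh']
      obtain ⟨gg', hgg'⟩ := (Rel.he π).surjective h'
      have e' := SchTorsor.act_free hT.1 hh''
      rw [← e, ← hgg', ← Adjunction.homEquiv_naturality_right, ← Adjunction.homEquiv_naturality_right] at e'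
      rw [← hgg', (cancel_mono i).1 ((Rel.he π).injective e')]
  have hloc : NonAbH1.IsLocallyTrivialFor Scheme.fppfPrecoverage V := by
    -- a covering with sections
    obtain ⟨hTs, hTf, hTl⟩ := surjective_flat_lfp π a hT
    obtain ⟨p₁, hp₁⟩ : ∃ p₁, p₁ = pullback.snd θ ζ := ⟨_, rfl⟩
    have sq : IsPullback (pullback.fst θ ζ).left p₁.left θ.left ζ.left :=
      hp₁ ▸ (IsPullback.of_hasPullback θ ζ).map (Over.forget _)
    have : Surjective p₁.left := MorphismProperty.of_isPullback (P := @Surjective) sq (hθdef ▸ inferInstance)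
    have : Flat p₁.left := MorphismProperty.of_isPullback (P := @Flat) sq (hθdef ▸ inferInstance)
    have : LocallyOfFinitePresentation p₁.left :=
      MorphismProperty.of_isPullback (P := @LocallyOfFinitePresentation) sq (hθdef ▸ inferInstance)
    let W : Over X := Over.mk (p₁.left ≫ T.hom)
    let y₀ : W ⟶ T := Over.homMk p₁.left rfl
    let κ : (Over.map π).obj W ⟶ pullback θ ζ := Over.homMk (𝟙 _) (by
      show 𝟙 _ ≫ (pullback θ ζ).hom = (p₁.left ≫ T.hom) ≫ π
      rw [Category.id_comp, ← Over.w p₁, Category.assoc]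
      rfl)
    have hy₀ : (Over.map π).map y₀ ≫ ζ = (κ ≫ pullback.fst θ ζ) ≫ θ := by
      have : (Over.map π).map y₀ = κ ≫ p₁ := Over.OverMorphism.ext (Category.id_comp _).symm
      rw [this, hp₁, Category.assoc, ← pullback.condition, Category.assoc]
    obtain ⟨v, -⟩ := (memV (lift (Rel.he π (κ ≫ pullback.fst θ ζ)⁻¹) y₀ ≫ a.act)).2 (by
      rw [hact, hy₀, hθ, ← SchTorsor.act_assoc, inv_mul_cancel, SchTorsor.one_act_pt])
    have hs : Surjective W.hom := (inferInstance : Surjective (p₁.left ≫ T.hom))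
    have hf : Flat W.hom := (inferInstance : Flat (p₁.left ≫ T.hom))
    have hl : LocallyOfFinitePresentation W.hom := (inferInstance : LocallyOfFinitePresentation (p₁.left ≫ T.hom))
    have hmem : Presieve.singleton W.hom ∈ Scheme.precoverage (@Flat ⊓ @LocallyOfFinitePresentation) X :=
      (Scheme.singleton_mem_precoverage_iff _ _).2 ⟨hs.surj, hf, hl⟩
    refine ⟨Presieve.singleton W.hom, hmem, ?_⟩
    rintro S' f ⟨⟩
    exact ⟨v.left, Over.w v⟩
  have heq : AlgGrp.Action.IsEquivariant b (a.restrict ((Over.pullback π).map i)) j :=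
    AlgGrp.Action.hom_ext_lift₂ fun W h v => by
      rw [lift_whiskerLeft_assoc, AlgGrp.Action.lift_restrict_act]
      exact ((Category.assoc _ _ _).symm.trans (hb h v))
  exact ⟨H, strH, i, himon, hicl, V, j, hjcl, b, ⟨isPseudoTorsor_of_points b hfree, hloc⟩, heq,
    (memV j).1 ⟨𝟙 V, Category.id_comp j⟩⟩

end Groth.Agent.NonAbLib.NoriReduced
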